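/-
INV library (large Ree groups): root elements, torus and Weyl action on `U σ`; the tactic `bsimp`.
-/
import Cfsg.Agent.INV.RS.UB

set_option autoImplicit false
set_option linter.unusedSimpArgs false
set_option linter.unusedSectionVars false
set_option linter.unusedVariables false

namespace CL.RB

variable {K : Type*} [CommRing K] {σ : K →+* K}

namespace U

/-- root element -/
@[simps] def x1 (t : K) : U σ := ⟨t, 0, 0, 0, 0, 0, 0, 0, 0, 0, 0, 0⟩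
/-- root element -/
@[simps] def y2 (b c : K) : U σ := ⟨0, b, c, 0, 0, 0, 0, 0, 0, 0, 0, 0⟩
/-- root element -/
@[simps] def x3 (t : K) : U σ := ⟨0, 0, 0, t, 0, 0, 0, 0, 0, 0, 0, 0⟩
/-- root element -/
@[simps] def y4 (b c : K) : U σ := ⟨0, 0, 0, 0, b, c, 0, 0, 0, 0, 0, 0⟩
/-- root element -/
@[simps] def x5 (t : K) : U σ := ⟨0, 0, 0, 0, 0, 0, t, 0, 0, 0, 0, 0⟩
/-- root element -/
@[simps] def y6 (b c : K) : U σ := ⟨0, 0, 0, 0, 0, 0, 0, b, c, 0, 0, 0⟩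
/-- root element -/
@[simps] def x7 (t : K) : U σ := ⟨0, 0, 0, 0, 0, 0, 0, 0, 0, t, 0, 0⟩
/-- root element -/
@[simps] def y8 (b c : K) : U σ := ⟨0, 0, 0, 0, 0, 0, 0, 0, 0, 0, b, c⟩

/-- the action of `n₁` on `Q' = {a1 = 0}` -/
@[simps] def w1 (g : U σ) : U σ where
  a1 := 0
  b2 := g.b8
  c2 := g.c8
  a3 := g.a7 + g.b2 * g.c8 + g.b6 * g.b8 + g.b2 * g.b8 * σ g.b8
  b4 := g.b6 + g.b2 * σ g.b8
  c4 := g.c6 + g.a3 * g.c8 + g.a5 * g.b8 + g.a7 * g.b4 + g.c2 * σ g.c8 + σ g.a7 * g.b2 + g.b4 * g.b6 * g.b8 +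
    g.b8 * g.c2 * g.c8 + g.a3 * g.b8 * σ g.b8 + g.a7 * σ g.b2 * g.b8 + g.b8 ^ 2 * σ g.b8 * g.c2 +
    σ g.b2 * g.b6 * g.b8 ^ 2 + g.b2 * σ g.b2 * g.b8 * g.c8 + g.b2 * σ g.b2 * g.b8 ^ 2 * σ g.b8
  a5 := g.a5 + g.b4 * g.b6 + g.c2 * g.c8 + g.a3 * σ g.b8 + g.a7 * σ g.b2 + g.b2 * σ g.b2 * g.c8
  b6 := g.b4 + σ g.b2 * g.b8
  c6 := g.c4 + g.a3 * g.b6 + g.a5 * g.b2 + g.a7 * g.c2 + σ g.a3 * g.b8 + σ g.c2 * g.c8 + g.b2 * g.b4 * g.b6 +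
    g.b2 * g.c2 * g.c8 + g.a3 * g.b2 * σ g.b8 + g.b8 * σ g.b8 * σ g.c2 + σ g.b2 * σ g.b4 * g.b8 +
    g.b2 ^ 2 * σ g.b2 * g.c8
  a7 := g.a3 + g.b2 * g.b4 + g.b8 * g.c2
  b8 := g.b2
  c8 := g.c2

/-- the action of `n₈` on `Q = {b8 = c8 = 0}` -/
@[simps] def w8 (g : U σ) : U σ where
  a1 := g.a7
  b2 := g.b6
  c2 := g.c6 + g.a7 * g.b4 + σ g.a7 * g.b2
  a3 := g.a5 + g.b4 * g.b6 + g.a1 * σ g.a7 + g.a7 * σ g.b2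
  b4 := g.b4
  c4 := g.c4 + g.a1 * g.c6 + g.a3 * g.b6 + g.a5 * g.b2 + g.a7 * g.c2 + g.a1 * g.a7 * g.b4 + g.b2 * g.b4 * g.b6 +
    g.a1 * g.b6 * σ g.b6 + g.a1 * σ g.a7 * g.b2 + σ g.a1 * g.a7 * g.b6
  a5 := g.a3 + g.b2 * g.b4 + g.a1 * σ g.b6 + σ g.a1 * g.a7
  b6 := g.b2
  c6 := g.c2 + g.a1 * g.b4 + σ g.a1 * g.b6
  a7 := g.a1
  b8 := 0
  c8 := 0

/-- the diagonal map with weights `l` on `a1` and `m` on `b8` -/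
@[simps] def dia (l m : K) (g : U σ) : U σ where
  a1 := l * g.a1
  b2 := l * m * g.b2
  c2 := l * σ l * m * σ m * g.c2
  a3 := l * σ l * σ m * m ^ 2 * g.a3
  b4 := σ l * m * σ m * g.b4
  c4 := l ^ 2 * σ l * m ^ 3 * σ m ^ 2 * g.c4
  a5 := l * σ l * m ^ 2 * σ m ^ 2 * g.a5
  b6 := l * m * σ m * g.b6
  c6 := l * σ l * m ^ 3 * σ m ^ 2 * g.c6
  a7 := l * σ m * m ^ 2 * g.a7
  b8 := m * g.b8
  c8 := m * σ m * g.c8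

end U

theorem Tits.sq' [T : Tits σ] (t : K) : σ (σ t) = t ^ 2 := T.sq t

/-- evaluate coordinates of products of elements of `U σ` -/
scoped macro "bsimp" loc:(Lean.Parser.Tactic.location)? : tactic => `(tactic| simp only [U.ext_iff,
  U.mul_a1, U.mul_b2, U.mul_c2, U.mul_a3, U.mul_b4, U.mul_c4, U.mul_a5, U.mul_b6, U.mul_c6, U.mul_a7, U.mul_b8,
  U.mul_c8, U.inv_a1, U.inv_b2, U.inv_c2, U.inv_a3, U.inv_b4, U.inv_c4, U.inv_a5, U.inv_b6, U.inv_c6, U.inv_a7,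
  U.inv_b8, U.inv_c8, U.one_a1, U.one_b2, U.one_c2, U.one_a3, U.one_b4, U.one_c4, U.one_a5, U.one_b6, U.one_c6,
  U.one_a7, U.one_b8, U.one_c8, U.x1_a1, U.x1_b2, U.x1_c2, U.x1_a3, U.x1_b4, U.x1_c4, U.x1_a5, U.x1_b6, U.x1_c6,
  U.x1_a7, U.x1_b8, U.x1_c8, U.y2_a1, U.y2_b2, U.y2_c2, U.y2_a3, U.y2_b4, U.y2_c4, U.y2_a5, U.y2_b6, U.y2_c6,
  U.y2_a7, U.y2_b8, U.y2_c8, U.x3_a1, U.x3_b2, U.x3_c2, U.x3_a3, U.x3_b4, U.x3_c4, U.x3_a5, U.x3_b6, U.x3_c6,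
  U.x3_a7, U.x3_b8, U.x3_c8, U.y4_a1, U.y4_b2, U.y4_c2, U.y4_a3, U.y4_b4, U.y4_c4, U.y4_a5, U.y4_b6, U.y4_c6,
  U.y4_a7, U.y4_b8, U.y4_c8, U.x5_a1, U.x5_b2, U.x5_c2, U.x5_a3, U.x5_b4, U.x5_c4, U.x5_a5, U.x5_b6, U.x5_c6,
  U.x5_a7, U.x5_b8, U.x5_c8, U.y6_a1, U.y6_b2, U.y6_c2, U.y6_a3, U.y6_b4, U.y6_c4, U.y6_a5, U.y6_b6, U.y6_c6,
  U.y6_a7, U.y6_b8, U.y6_c8, U.x7_a1, U.x7_b2, U.x7_c2, U.x7_a3, U.x7_b4, U.x7_c4, U.x7_a5, U.x7_b6, U.x7_c6,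
  U.x7_a7, U.x7_b8, U.x7_c8, U.y8_a1, U.y8_b2, U.y8_c2, U.y8_a3, U.y8_b4, U.y8_c4, U.y8_a5, U.y8_b6, U.y8_c6,
  U.y8_a7, U.y8_b8, U.y8_c8, U.w1_a1, U.w1_b2, U.w1_c2, U.w1_a3, U.w1_b4, U.w1_c4, U.w1_a5, U.w1_b6, U.w1_c6,
  U.w1_a7, U.w1_b8, U.w1_c8, U.w8_a1, U.w8_b2, U.w8_c2, U.w8_a3, U.w8_b4, U.w8_c4, U.w8_a5, U.w8_b6, U.w8_c6,
  U.w8_a7, U.w8_b8, U.w8_c8, U.dia_a1, U.dia_b2, U.dia_c2, U.dia_a3, U.dia_b4, U.dia_c4, U.dia_a5, U.dia_b6,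
  U.dia_c6, U.dia_a7, U.dia_b8, U.dia_c8,
  map_add, map_mul, map_pow, map_zero, map_one, Tits.sq', mul_zero, zero_mul, add_zero, zero_add,
  mul_one, one_mul, one_pow, ne_eq, OfNat.ofNat_ne_zero, not_false_eq_true, zero_pow, true_and, and_true, and_self,
  commutatorElement_def] $[$loc]?)

namespace U

variable [T : Tits σ]

theorem dia_mul (l m : K) (g h : U σ) : dia l m (g * h) = dia l m g * dia l m h := by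
  ext <;> bsimp <;> ring

theorem w1_mul {g h : U σ} (hg : g.a1 = 0) (hh : h.a1 = 0) : w1 (g * h) = w1 g * w1 h := by
  have := T.char
  ext <;> bsimp <;> simp only [hg, hh, map_zero] <;> grind

theorem w1_w1 {g : U σ} (hg : g.a1 = 0) : w1 (w1 g) = g := by
  have := T.char
  ext <;> bsimp <;> grind

theorem w8_mul {g h : U σ} (hg : g.b8 = 0) (hg' : g.c8 = 0) (hh : h.b8 = 0) (hh' : h.c8 = 0) :
    w8 (g * h) = w8 g * w8 h := by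
  have := T.char
  ext <;> bsimp <;> simp only [hg, hh, hg', hh', map_zero] <;> grind

theorem w8_w8 {g : U σ} (hg : g.b8 = 0) (hg' : g.c8 = 0) : w8 (w8 g) = g := by
  have := T.char
  ext <;> bsimp <;> grind

theorem eq_prod (g : U σ) : g = x1 g.a1 * y2 g.b2 g.c2 * x3 g.a3 * y4 g.b4 g.c4 * x5 g.a5 * y6 g.b6 g.c6 * x7 g.a7 *
    y8 g.b8 g.c8 := by
  have h2 : (x1 g.a1 * y2 g.b2 g.c2 : U σ) = ⟨g.a1, g.b2, g.c2, 0, 0, 0, 0, 0, 0, 0, 0, 0⟩ := by bsimp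
  have h3 : (⟨g.a1, g.b2, g.c2, 0, 0, 0, 0, 0, 0, 0, 0, 0⟩ * x3 g.a3 : U σ) =
    ⟨g.a1, g.b2, g.c2, g.a3, 0, 0, 0, 0, 0, 0, 0, 0⟩ := by bsimp
  have h4 : (⟨g.a1, g.b2, g.c2, g.a3, 0, 0, 0, 0, 0, 0, 0, 0⟩ * y4 g.b4 g.c4 : U σ) =
    ⟨g.a1, g.b2, g.c2, g.a3, g.b4, g.c4, 0, 0, 0, 0, 0, 0⟩ := by bsimp
  have h5 : (⟨g.a1, g.b2, g.c2, g.a3, g.b4, g.c4, 0, 0, 0, 0, 0, 0⟩ * x5 g.a5 : U σ) =
    ⟨g.a1, g.b2, g.c2, g.a3, g.b4, g.c4, g.a5, 0, 0, 0, 0, 0⟩ := by bsimp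
  have h6 : (⟨g.a1, g.b2, g.c2, g.a3, g.b4, g.c4, g.a5, 0, 0, 0, 0, 0⟩ * y6 g.b6 g.c6 : U σ) =
    ⟨g.a1, g.b2, g.c2, g.a3, g.b4, g.c4, g.a5, g.b6, g.c6, 0, 0, 0⟩ := by bsimp
  have h7 : (⟨g.a1, g.b2, g.c2, g.a3, g.b4, g.c4, g.a5, g.b6, g.c6, 0, 0, 0⟩ * x7 g.a7 : U σ) =
    ⟨g.a1, g.b2, g.c2, g.a3, g.b4, g.c4, g.a5, g.b6, g.c6, g.a7, 0, 0⟩ := by bsimp
  rw [h2, h3, h4, h5, h6, h7]
  bsimp

/-- coordinates -/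
def equivPi : U σ ≃ (Fin 12 → K) where
  toFun g := ![g.a1, g.b2, g.c2, g.a3, g.b4, g.c4, g.a5, g.b6, g.c6, g.a7, g.b8, g.c8]
  invFun f := ⟨f 0, f 1, f 2, f 3, f 4, f 5, f 6, f 7, f 8, f 9, f 10, f 11⟩
  left_inv _ := rfl
  right_inv f := by funext i; fin_cases i <;> rfl

instance [Finite K] : Finite (U σ) := Finite.of_equiv _ equivPi.symm

theorem card_eq : Nat.card (U σ) = Nat.card K ^ 12 := by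
  rw [Nat.card_congr equivPi, Nat.card_fun, Nat.card_fin]

end U

end CL.RB
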